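import Mathlib
import Groth.Agent.DimFormula.Field
import Groth.Agent.PlaneForms.Basic

/-!
# A lower bound for the Hilbert function
-/

set_option autoImplicit false
universe u

namespace Groth.Agent.HilbLow

open MvPolynomial

theorem le_choose : ∀ n k : ℕ, 1 ≤ k → k < n → n ≤ n.choose k := by
  intro n
  induction n with
  | zero => omega
  | succ n ih =>
    intro k hk hkn
    obtain ⟨l, rfl⟩ := Nat.exists_eq_add_of_le' hk
    rw [Nat.choose_succ_succ]
    rcases Nat.eq_zero_or_pos l with hl | hl
    · subst hl; simp
    · rcases Nat.lt_or_ge (l + 1) n with h | h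
      · have := ih (l + 1) (by omega) h
        have := Nat.choose_pos (show l ≤ n by omega)
        simp only [Nat.succ_eq_add_one]
        omega
      · obtain rfl : l + 1 = n := by omega
        simp [Nat.choose_succ_self_right]

variable {k : Type u} [Field k]

theorem finrank_add_le {N : ℕ} (I : Ideal (MvPolynomial (Fin N) k)) (hI : I.radical.IsPrime) (s j : ℕ)
    (hdim : ringKrullDim (MvPolynomial (Fin N) k ⧸ I) = (s : WithBot ℕ∞)) :
    Module.finrank k ↥(homogeneousSubmodule (Fin N) k j ⊓ Submodule.restrictScalars k I) + (s + j - 1).choose j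
      ≤ Module.finrank k ↥(homogeneousSubmodule (Fin N) k j) := by
  classical
  haveI := hI
  set p := I.radical with hp
  set A := MvPolynomial (Fin N) k ⧸ p
  let q : MvPolynomial (Fin N) k →ₐ[k] A := Ideal.Quotient.mkₐ k p
  have hdimp : ringKrullDim A = (s : WithBot ℕ∞) := by
    rw [← hdim, ringKrullDim_quotient, ringKrullDim_quotient, hp, PrimeSpectrum.zeroLocus_radical]
  obtain ⟨s', hs1, hs2⟩ := DimFormula.exists_trdeg_eq_ringKrullDim k A
  obtain rfl : s' = s := by
    rw [hs2] at hdimp
    exact_mod_cast hdimp
  set xs : Set A := Set.range fun i => q (X i) with hxs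
  haveI : Algebra.IsAlgebraic (Algebra.adjoin k xs) A := by
    refine ⟨fun a => ?_⟩
    have ha : a ∈ Algebra.adjoin k xs := by
      obtain ⟨f, rfl⟩ := Ideal.Quotient.mk_surjective a
      show q f ∈ _
      induction f using MvPolynomial.induction_on with
      | C c => rw [← MvPolynomial.algebraMap_eq, AlgHom.commutes]; exact Subalgebra.algebraMap_mem _ c
      | add f g hf hg => rw [map_add]; exact add_mem hf hg
      | mul_X f i hf => rw [map_mul]; exact mul_mem hf (Algebra.subset_adjoin ⟨i, rfl⟩)
    exact isAlgebraic_algebraMap (⟨a, ha⟩ : Algebra.adjoin k xs)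
  obtain ⟨T, hT, hTb⟩ := exists_isTranscendenceBasis_subset (R := k) xs
  haveI : Finite T := ((Set.finite_range _).subset hT).to_subtype
  haveI := Fintype.ofFinite T
  have hcard : Fintype.card T = s' := by
    have := hTb.cardinalMk_eq_trdeg
    rw [hs1, Cardinal.mk_fintype, Nat.cast_inj] at this
    exact this
  choose ι₀ hι₀ using fun t : T => hT t.2
  let e : Fin s' ≃ T := (Fintype.equivFinOfCardEq hcard).symm
  let ι : Fin s' → Fin N := fun i => ι₀ (e i)
  have hι : ∀ i, q (X (ι i)) = (e i : A) := fun i => hι₀ (e i)
  have hcomp : q.comp (rename ι) = MvPolynomial.aeval (fun i => (e i : A)) := by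
    refine algHom_ext fun t => ?_
    simp only [AlgHom.comp_apply, rename_X, aeval_X]
    exact hι t
  have hinj : Function.Injective (q.comp (rename ι)) := by rw [hcomp]; exact hTb.1.comp e e.injective
  haveI : Module.Finite k (homogeneousSubmodule (Fin N) k j) :=
    (Groth.Agent.PlaneForms.finite_homogeneous_and_finrank j).1
  set W := (homogeneousSubmodule (Fin s') k j).map (rename ι).toLinearMap with hW
  have hWle : W ≤ homogeneousSubmodule (Fin N) k j := by
    rintro _ ⟨f, hf, rfl⟩
    exact (show f.IsHomogeneous j from hf).rename_isHomogeneous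
  set V := homogeneousSubmodule (Fin N) k j ⊓ Submodule.restrictScalars k I with hV
  have hdisj : Disjoint W V := by
    rw [Submodule.disjoint_def]
    rintro _ ⟨f, -, rfl⟩ hx
    have h1 : q (rename ι f) = 0 := Ideal.Quotient.eq_zero_iff_mem.2 (Ideal.le_radical hx.2)
    have h2 : f = 0 := hinj (by rw [map_zero]; exact h1)
    rw [h2, map_zero]
  haveI : Module.Finite k W := Submodule.finiteDimensional_of_le hWle
  haveI : Module.Finite k V := Submodule.finiteDimensional_of_le inf_le_left
  have h3 := Submodule.finrank_sup_add_finrank_inf_eq W V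
  rw [hdisj.eq_bot, finrank_bot, add_zero] at h3
  have h4 : W ⊔ V ≤ homogeneousSubmodule (Fin N) k j := sup_le hWle inf_le_left
  have h5 := Submodule.finrank_mono h4
  have h6 : Module.finrank k W = (s' + j - 1).choose j := by
    have hr : Function.Injective (rename ι (R := k)) := fun a b hab => hinj (by
      simp only [AlgHom.comp_apply, hab])
    rw [hW, ← (Submodule.equivMapOfInjective (rename ι).toLinearMap hr (homogeneousSubmodule (Fin s') k j)).finrank_eq,
      (Groth.Agent.PlaneForms.finite_homogeneous_and_finrank (k := k) (σ := Fin s') j).2, Fintype.card_fin]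
  omega

end Groth.Agent.HilbLow
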